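import Mathlib
import Cfsg.Prelude.Def_Classification2
import Cfsg.Agent.H208.QuadBase
import Cfsg.Agent.H96.WeakClosedG2
import Cfsg.Agent.H115.ChevPar
import Cfsg.Agent.OddHalf.D5.EightCleanSwp_m3
import Cfsg.Agent.BpExc.AsmN_m3
import Cfsg.Agent.FastGrp
import Cfsg.Agent.Prune
set_option linter.all false
prune_inst 0x7f00000000000000000000000000000000000000000000000000000000000000000000000000000000000000000000000000000000000000000000000000000000000000000000000000000000000000003fffffffffffffffffffffffffffbeffbdffffffff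
open scoped Cfsg.Agent.FastGrp

-- part: H5/Piv/Base
section
/-!
# The pivot lemma of S2888: transport and reductions (helper5)

* `Piv p z` : the same as `H226.ParG.Piv`;
* `LP p L` : all `p`-central elements `z` of order `p` of `L` satisfy `Piv p z`;
* `Piv.map`, `Piv.conj`, `LP.congr`, `LP.of_exists`;
* `piv_pair` : `z` and `x` commute, `y` conjugates `x` to `x z`, every element of order `p` of `⟨z⟩` and `x` has a conjugate with
  a power equal to `z`.
-/

set_option autoImplicit false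

namespace Cfsg.Agent.H5.Piv

open Subgroup Cfsg
open Cfsg.Agent.H208.QuadBase (mem_sylow)
open scoped Pointwise

universe u v

/-- **Pivot.** (definitionally `Cfsg.Agent.H226.ParG.Piv`) -/
def Piv (p : ℕ) {L : Type u} [Group L] (z : L) : Prop :=
  ∃ E : Subgroup L, IsElementaryAbelian p E ∧ E ≠ ⊥ ∧
    ∀ B : Subgroup L, B ≤ E → B.relIndex E = p → ∃ b ∈ B, ∃ g : L, z ∈ zpowers (g * b * g⁻¹)

/-- every `z ≠ 1` with `z ^ p = 1` commuting with a Sylow `p`-subgroup of `L` satisfies `Piv p z` -/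
def LP (p : ℕ) (L : Type u) [Group L] : Prop :=
  ∀ (P : Sylow p L) (z : L), z ≠ 1 → z ^ p = 1 → (∀ x ∈ P, x * z = z * x) → Piv p z

theorem piv_equiv {p : ℕ} {L : Type u} {L' : Type v} [Group L] [Group L'] (f : L ≃* L') {z : L}
    (h : Piv p z) : Piv p (f z) := by
  obtain ⟨E, hE, hE1, hB⟩ := h
  refine ⟨E.map f.toMonoidHom, ⟨⟨⟨?_⟩⟩, ?_⟩, ?_, ?_⟩
  · rintro ⟨_, a, ha, rfl⟩ ⟨_, b, hb, rfl⟩
    apply Subtype.ext
    have h1 := hE.1.is_comm.comm ⟨a, ha⟩ ⟨b, hb⟩
    have h2 : a * b = b * a := congrArg Subtype.val h1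
    change f a * f b = f b * f a
    rw [← map_mul, h2, map_mul]
  · rintro _ ⟨a, ha, rfl⟩
    rw [← map_pow, hE.2 a ha, map_one]
  · rwa [Ne, Subgroup.map_eq_bot_iff_of_injective _ f.injective]
  · intro B hBE hi
    have h1 : B = (B.comap f.toMonoidHom).map f.toMonoidHom := by
      rw [Subgroup.map_comap_eq_self_of_surjective f.surjective]
    have h2 : B.comap f.toMonoidHom ≤ E := by
      intro x hx
      obtain ⟨y, hy, hyx⟩ := hBE (mem_comap.1 hx)
      have : y = x := f.injective hyx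
      rwa [← this]
    have h3 : (B.comap f.toMonoidHom).relIndex E = p := by
      rw [h1, relIndex_map_map_of_injective _ _ f.injective] at hi
      exact hi
    obtain ⟨b, hb, g, hg⟩ := hB _ h2 h3
    refine ⟨f b, hb, f g, ?_⟩
    obtain ⟨k, hk⟩ := hg
    refine ⟨k, ?_⟩
    change (g * b * g⁻¹) ^ k = z at hk
    change (f g * f b * (f g)⁻¹) ^ k = f z
    rw [← hk]
    simp only [map_mul, _root_.conj_zpow, _root_.map_zpow, _root_.map_inv]

theorem piv_conj {p : ℕ} {L : Type u} [Group L] {z : L} (g : L) (h : Piv p (g * z * g⁻¹)) : Piv p z := by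
  have h1 := piv_equiv (MulAut.conj g⁻¹) h
  have e : (MulAut.conj g⁻¹) (g * z * g⁻¹) = z := by
    change g⁻¹ * (g * z * g⁻¹) * g⁻¹⁻¹ = z
    group
  rwa [e] at h1

theorem LP.congr {p : ℕ} {L : Type u} {L' : Type v} [Group L] [Group L'] (e : L ≃* L') (h : LP p L') : LP p L := by
  intro P z hz hzp hc
  have h1 : IsPGroup p ((P : Subgroup L).map e.toMonoidHom) := P.2.map _
  have hmax : ∀ {Q : Subgroup L'}, IsPGroup p Q → (P : Subgroup L).map e.toMonoidHom ≤ Q →
      Q = (P : Subgroup L).map e.toMonoidHom := by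
    intro Q hQ hle
    have h2 : IsPGroup p (Q.map e.symm.toMonoidHom) := hQ.map _
    have h3 : (P : Subgroup L) ≤ Q.map e.symm.toMonoidHom := by
      intro x hx
      exact ⟨e x, hle ⟨x, hx, rfl⟩, e.symm_apply_apply x⟩
    have h4 := P.3 h2 h3
    apply le_antisymm _ hle
    intro y hy
    have h5 : e.symm y ∈ (P : Subgroup L) := by
      rw [← h4]
      exact ⟨y, hy, rfl⟩
    exact ⟨e.symm y, h5, e.apply_symm_apply y⟩
  let P' : Sylow p L' := ⟨(P : Subgroup L).map e.toMonoidHom, h1, hmax⟩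
  have h2 := h P' (e z) (by simpa using hz) (by rw [← map_pow, hzp, map_one]) (by
    rintro _ ⟨x, hx, rfl⟩
    change e x * e z = e z * e x
    rw [← map_mul, hc x hx, map_mul])
  have h3 := piv_equiv e.symm h2
  rwa [e.symm_apply_apply] at h3

/-- it is enough to look at one Sylow subgroup -/
theorem LP.of_exists {p : ℕ} [Fact p.Prime] {L : Type u} [Group L] [Finite L] (S : Sylow p L)
    (h : ∀ z ∈ S, z ≠ 1 → z ^ p = 1 → (∀ x ∈ S, x * z = z * x) → Piv p z) : LP p L := by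
  intro P z hz hzp hc
  obtain ⟨g, hg⟩ := MulAction.exists_smul_eq L P S
  have hmem : ∀ x, g * x * g⁻¹ ∈ S ↔ x ∈ P := by
    intro x
    rw [← hg]
    change g * x * g⁻¹ ∈ ((g • P : Sylow p L) : Subgroup L) ↔ _
    rw [Sylow.coe_subgroup_smul, Subgroup.mem_pointwise_smul_iff_inv_smul_mem, MulAut.smul_def, ← map_inv,
      MulAut.conj_apply]
    have : g⁻¹ * (g * x * g⁻¹) * g⁻¹⁻¹ = x := by group
    rw [this]
    exact Iff.rfl
  refine piv_conj g (h _ ((hmem z).2 (mem_sylow P hzp hc)) ?_ ?_ ?_)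
  · intro h1
    apply hz
    have h2 : z = g⁻¹ * (g * z * g⁻¹) * g := by group
    rw [h2, h1]
    group
  · rw [conj_pow, hzp]
    group
  · intro x hx
    have h1 : g⁻¹ * x * g ∈ P := by
      rw [← hmem]
      have : g * (g⁻¹ * x * g) * g⁻¹ = x := by group
      rwa [this]
    have h2 := hc _ h1
    calc x * (g * z * g⁻¹) = g * ((g⁻¹ * x * g) * z) * g⁻¹ := by group
      _ = g * (z * (g⁻¹ * x * g)) * g⁻¹ := by rw [h2]
      _ = g * z * g⁻¹ * x := by group

end Cfsg.Agent.H5.Piv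
end

-- part: H580/Piv/GTwo
section
/-!
# The pivot lemma of S2888 for `G₂(5)` (helper580, task 1475)

* `center_mem` : in characteristic not 3, an element of `U` commuting with `U` is some `x_11(t)`;
* `piv_g2` : `LP 5 (G₂(5))`.
-/

set_option autoImplicit false
set_option linter.unusedSectionVars false

namespace Cfsg.Agent.H580.Piv.GTwo

open Subgroup Cfsg Cfsg.Lie Cfsg.Agent.ChevalleyStructure.Elts Cfsg.Agent.ChevalleyStructure
  Cfsg.Agent.ChevalleyStructure.UnipProd Cfsg.Agent.H96.WeakClosed Cfsg.Agent.H5.Piv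

variable {F : Type} [Field F]

local notation "X₂" => xG (F := F) inListG2

theorem comm_word {r s : ℕ} (hr : r < 12) (hs : s < 12) (h1 : s ≠ r) (h2 : s ≠ chevG2.neg r) (t u : F) :
    X₂ s u * X₂ r t = X₂ r t * X₂ s u * wordG inListG2 (chevG2.commWord F r s t u) :=
  xG_comm inListG2 hr hs h1 h2 t u

theorem comm_one {r s : ℕ} (hr : r < 12) (hs : s < 12) (h1 : s ≠ r) (h2 : s ≠ chevG2.neg r)
    (h : chevG2.commTerms r s = []) (t u : F) : X₂ s u * X₂ r t = X₂ r t * X₂ s u := by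
  rw [comm_word hr hs h1 h2, ChevalleyDatum.commWord, h, List.map_nil, wordG_nil, mul_one]

theorem comm_two {r s k : ℕ} {C : ℤ} (hr : r < 12) (hs : s < 12) (h1 : s ≠ r) (h2 : s ≠ chevG2.neg r)
    (h : chevG2.commTerms r s = [(k, C, 1, 1)]) (t u : F) :
    X₂ s u * X₂ r t = X₂ r t * X₂ s u * X₂ k ((C : F) * (-t) * u) := by
  rw [comm_word hr hs h1 h2, ChevalleyDatum.commWord, h, List.map_cons, List.map_nil, wordG_cons, wordG_nil,
    mul_one]
  congr 2
  ring

theorem c10_6 (t u : F) : X₂ 10 u * X₂ 6 t = X₂ 6 t * X₂ 10 u * X₂ 11 (-t * u) := by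
  have := comm_two (F := F) (r := 6) (s := 10) (k := 11) (C := 1) (by decide) (by decide) (by decide)
    (by decide +kernel) (by decide +kernel) t u
  simpa only [_root_.neg_mul, _root_.Int.cast_one, _root_.mul_neg, _root_.one_mul] using this

theorem c9_7 (t u : F) : X₂ 9 u * X₂ 7 t = X₂ 7 t * X₂ 9 u * X₂ 10 (3 * (-t) * u) := by
  have := comm_two (F := F) (r := 7) (s := 9) (k := 10) (C := 3) (by decide) (by decide) (by decide)
    (by decide +kernel) (by decide +kernel) t u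
  simpa only [_root_.mul_neg, _root_.neg_mul, _root_.Int.cast_ofNat] using this

theorem c9_8 (t u : F) : X₂ 9 u * X₂ 8 t = X₂ 8 t * X₂ 9 u * X₂ 11 (3 * (-t) * u) := by
  have := comm_two (F := F) (r := 8) (s := 9) (k := 11) (C := 3) (by decide) (by decide) (by decide)
    (by decide +kernel) (by decide +kernel) t u
  simpa only [_root_.mul_neg, _root_.neg_mul, _root_.Int.cast_ofNat] using this

/-- the commuting pairs of positive roots -/
theorem comm_pairs : ∀ p ∈ [(7, 10), (8, 10), (9, 10), (11, 10), (11, 9), (10, 8), (11, 8), (10, 7), (11, 7), (11, 6),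
    (10, 9)],
    chevG2.commTerms p.1 p.2 = [] ∧ p.2 ≠ chevG2.neg p.1 := by decide +kernel

theorem cc {r s : ℕ} (h : (r, s) ∈ [(7, 10), (8, 10), (9, 10), (11, 10), (11, 9), (10, 8), (11, 8), (10, 7),
    (11, 7), (11, 6), (10, 9)]) (hr : r < 12) (hs : s < 12) (h1 : s ≠ r) (t u : F) :
    X₂ s u * X₂ r t = X₂ r t * X₂ s u :=
  comm_one hr hs h1 (comm_pairs _ h).2 (comm_pairs _ h).1 t u

theorem inj11 {s t : F} (h : X₂ 11 s = X₂ 11 t) : s = t := by
  have h1 : wordG inListG2 ((rootsGE chevG2 11).map fun r => (r, (fun _ => s : ℕ → F) r)) =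
      wordG inListG2 ((rootsGE chevG2 11).map fun r => (r, (fun _ => t : ℕ → F) r)) := by
    have e : rootsGE chevG2 11 = [11] := rfl
    rw [e, List.map_cons, List.map_nil, List.map_cons, List.map_nil, wordG_cons, wordG_nil, wordG_cons, wordG_nil,
      mul_one, mul_one]
    exact h
  exact prod_injective inListG2 (by decide) h1 11 le_rfl (by decide)

theorem inj10 {s t s' t' : F} (h : X₂ 10 s * X₂ 11 t = X₂ 10 s' * X₂ 11 t') : s = s' ∧ t = t' := by
  have e : rootsGE chevG2 10 = [10, 11] := rfl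
  have h1 : wordG inListG2 ((rootsGE chevG2 10).map fun r => (r, (fun r => if r = 10 then s else t : ℕ → F) r)) =
      wordG inListG2 ((rootsGE chevG2 10).map fun r => (r, (fun r => if r = 10 then s' else t' : ℕ → F) r)) := by
    rw [e]
    simp only [List.map_cons, List.map_nil, wordG_cons, wordG_nil, mul_one, if_true]
    simpa only [_root_.Nat.succ_ne_self, ↓ _root_.reduceIte] using h
  have h2 := prod_injective inListG2 (by decide) h1
  exact ⟨by simpa using h2 10 le_rfl (by decide), by simpa using h2 11 (by decide) (by decide)⟩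

/-- **The center of `U`** -/
theorem center_mem (h3 : (3 : F) ≠ 0) {z : GL chevG2.Idx F} (hz : z ∈ chevG2.posUnipotent F)
    (hc : ∀ u ∈ chevG2.posUnipotent F, u * z = z * u) : ∃ t : F, z = X₂ 11 t := by
  rw [← unipGE_eq_posUnipotent inListG2 F (k := 6) (by decide)] at hz
  obtain ⟨t6, v6, hv6, rfl⟩ := exists_of_mem_unipGE inListG2 (pos_G2 6 (by simp)) hz
  obtain ⟨t7, v7, hv7, rfl⟩ := exists_of_mem_unipGE inListG2 (pos_G2 7 (by simp)) hv6
  obtain ⟨t8, v8, hv8, rfl⟩ := exists_of_mem_unipGE inListG2 (pos_G2 8 (by simp)) hv7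
  obtain ⟨t9, v9, hv9, rfl⟩ := exists_of_mem_unipGE inListG2 (pos_G2 9 (by simp)) hv8
  obtain ⟨t10, v10, hv10, rfl⟩ := exists_of_mem_unipGE inListG2 (pos_G2 10 (by simp)) hv9
  obtain ⟨t11, v11, hv11, rfl⟩ := exists_of_mem_unipGE inListG2 (pos_G2 11 (by simp)) hv10
  rw [unipGE_eq_bot inListG2 F (by decide), Subgroup.mem_bot] at hv11
  subst hv11
  rw [mul_one] at hc ⊢
  have m : ∀ r ∈ [6, 7, 8, 9, 10, 11], ∀ t : F, X₂ r t ∈ chevG2.posUnipotent F := fun r hr t =>
    xG_mem_posUnipotent inListG2 (pos_G2 r hr) t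
  have a7 := fun t u : F => cc (F := F) (r := 7) (s := 10) (by decide) (by decide) (by decide) (by decide) t u
  have a8 := fun t u : F => cc (F := F) (r := 8) (s := 10) (by decide) (by decide) (by decide) (by decide) t u
  have a9 := fun t u : F => cc (F := F) (r := 9) (s := 10) (by decide) (by decide) (by decide) (by decide) t u
  have a11 := fun t u : F => cc (F := F) (r := 11) (s := 10) (by decide) (by decide) (by decide) (by decide) t u
  have b11 := fun t u : F => cc (F := F) (r := 11) (s := 9) (by decide) (by decide) (by decide) (by decide) t u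
  have b10 := fun t u : F => cc (F := F) (r := 10) (s := 9) (by decide) (by decide) (by decide) (by decide) t u
  have d11 := fun t u : F => cc (F := F) (r := 11) (s := 8) (by decide) (by decide) (by decide) (by decide) t u
  have d10 := fun t u : F => cc (F := F) (r := 10) (s := 8) (by decide) (by decide) (by decide) (by decide) t u
  have e10 := fun t u : F => cc (F := F) (r := 10) (s := 7) (by decide) (by decide) (by decide) (by decide) t u
  have e11 := fun t u : F => cc (F := F) (r := 11) (s := 7) (by decide) (by decide) (by decide) (by decide) t u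
  have f11 := fun t u : F => cc (F := F) (r := 11) (s := 6) (by decide) (by decide) (by decide) (by decide) t u
  -- `t6 = 0`
  have h6 : t6 = 0 := by
    have h := hc _ (m 10 (by simp) 1)
    have h1 : X₂ 10 1 * (X₂ 6 t6 * (X₂ 7 t7 * (X₂ 8 t8 * (X₂ 9 t9 * (X₂ 10 t10 * X₂ 11 t11))))) =
        X₂ 6 t6 * X₂ 11 (-t6 * 1) * (X₂ 7 t7 * (X₂ 8 t8 * (X₂ 9 t9 * (X₂ 10 t10 * X₂ 11 t11)))) * X₂ 10 1 := by
      have g1 : X₂ 10 1 * (X₂ 7 t7 * (X₂ 8 t8 * (X₂ 9 t9 * (X₂ 10 t10 * X₂ 11 t11)))) =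
          (X₂ 7 t7 * (X₂ 8 t8 * (X₂ 9 t9 * (X₂ 10 t10 * X₂ 11 t11)))) * X₂ 10 1 := by
        rw [← mul_assoc, a7, mul_assoc, ← mul_assoc (X₂ 10 1), a8, mul_assoc, ← mul_assoc (X₂ 10 1), a9, mul_assoc,
          ← mul_assoc (X₂ 10 1) (X₂ 10 t10), show X₂ 10 1 * X₂ 10 t10 = X₂ 10 t10 * X₂ 10 1 by
            rw [xG_add, xG_add, add_comm], mul_assoc (X₂ 10 t10), a11]
        simp only [mul_assoc]
      calc _ = (X₂ 10 1 * X₂ 6 t6) * (X₂ 7 t7 * (X₂ 8 t8 * (X₂ 9 t9 * (X₂ 10 t10 * X₂ 11 t11)))) := by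
            simp only [mul_assoc]
        _ = X₂ 6 t6 * (X₂ 10 1 * X₂ 11 (-t6 * 1)) * (X₂ 7 t7 * (X₂ 8 t8 * (X₂ 9 t9 * (X₂ 10 t10 * X₂ 11 t11)))) := by
            rw [c10_6]
            simp only [mul_assoc]
        _ = X₂ 6 t6 * X₂ 11 (-t6 * 1) * (X₂ 10 1 * (X₂ 7 t7 * (X₂ 8 t8 * (X₂ 9 t9 * (X₂ 10 t10 * X₂ 11 t11))))) := by
            rw [a11]
            simp only [mul_assoc]
        _ = _ := by
            rw [g1]
            simp only [mul_assoc]
    rw [h1] at h
    have h2 := mul_right_cancel h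
    rw [mul_assoc] at h2
    have h3 := mul_left_cancel h2
    have h4 : X₂ 11 (-t6 * 1) = 1 := by
      have h5 := h3.trans (one_mul _).symm
      exact mul_right_cancel h5
    rw [← xG_zero inListG2 11] at h4
    have := inj11 h4
    simpa using this
  subst h6
  rw [xG_zero, one_mul] at hc ⊢
  have h78 : t7 = 0 ∧ t8 = 0 := by
    have h := hc _ (m 9 (by simp) 1)
    have h1 : X₂ 9 1 * (X₂ 7 t7 * (X₂ 8 t8 * (X₂ 9 t9 * (X₂ 10 t10 * X₂ 11 t11)))) =
        (X₂ 7 t7 * (X₂ 8 t8 * ((X₂ 10 (3 * (-t7) * 1) * X₂ 11 (3 * (-t8) * 1)) *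
          (X₂ 9 t9 * (X₂ 10 t10 * X₂ 11 t11))))) * X₂ 9 1 := by
      have g1 : X₂ 9 1 * (X₂ 9 t9 * (X₂ 10 t10 * X₂ 11 t11)) = (X₂ 9 t9 * (X₂ 10 t10 * X₂ 11 t11)) * X₂ 9 1 := by
        rw [← mul_assoc, show X₂ 9 1 * X₂ 9 t9 = X₂ 9 t9 * X₂ 9 1 by rw [xG_add, xG_add, add_comm], mul_assoc,
          ← mul_assoc (X₂ 9 1) (X₂ 10 t10), b10, mul_assoc (X₂ 10 t10), b11]
        simp only [mul_assoc]
      calc _ = (X₂ 9 1 * X₂ 7 t7) * (X₂ 8 t8 * (X₂ 9 t9 * (X₂ 10 t10 * X₂ 11 t11))) := by simp only [mul_assoc]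
        _ = X₂ 7 t7 * X₂ 9 1 * (X₂ 10 (3 * (-t7) * 1) * X₂ 8 t8) * (X₂ 9 t9 * (X₂ 10 t10 * X₂ 11 t11)) := by
            rw [c9_7]
            simp only [mul_assoc]
        _ = X₂ 7 t7 * (X₂ 9 1 * X₂ 8 t8) * (X₂ 10 (3 * (-t7) * 1) * (X₂ 9 t9 * (X₂ 10 t10 * X₂ 11 t11))) := by
            rw [a8]
            simp only [mul_assoc]
        _ = X₂ 7 t7 * X₂ 8 t8 * X₂ 9 1 * (X₂ 11 (3 * (-t8) * 1) * X₂ 10 (3 * (-t7) * 1)) *
            (X₂ 9 t9 * (X₂ 10 t10 * X₂ 11 t11)) := by
            rw [c9_8]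
            simp only [mul_assoc]
        _ = X₂ 7 t7 * X₂ 8 t8 * (X₂ 9 1 * (X₂ 10 (3 * (-t7) * 1) * X₂ 11 (3 * (-t8) * 1))) *
            (X₂ 9 t9 * (X₂ 10 t10 * X₂ 11 t11)) := by
            rw [← a11]
            simp only [mul_assoc]
        _ = X₂ 7 t7 * X₂ 8 t8 * ((X₂ 10 (3 * (-t7) * 1) * X₂ 11 (3 * (-t8) * 1)) *
            (X₂ 9 1 * (X₂ 9 t9 * (X₂ 10 t10 * X₂ 11 t11)))) := by
            rw [← mul_assoc (X₂ 9 1), b10, mul_assoc (X₂ 10 _) (X₂ 9 1), b11]
            simp only [mul_assoc]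
        _ = _ := by
            rw [g1]
            simp only [mul_assoc]
    rw [h1] at h
    have h2 := mul_left_cancel (mul_left_cancel (mul_right_cancel h))
    have h4 : X₂ 10 (3 * (-t7) * 1) * X₂ 11 (3 * (-t8) * 1) = 1 := mul_right_cancel (h2.trans (one_mul _).symm)
    have h5 : X₂ 10 (3 * (-t7) * 1) * X₂ 11 (3 * (-t8) * 1) = X₂ 10 0 * X₂ 11 0 := by
      rw [h4, xG_zero, xG_zero, one_mul]
    obtain ⟨h6, h7⟩ := inj10 h5
    constructor
    · simpa [h3] using h6
    · simpa [h3] using h7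
  obtain ⟨rfl, rfl⟩ := h78
  rw [xG_zero, one_mul, xG_zero, one_mul] at hc ⊢
  have h9 : t9 = 0 := by
    have h := hc _ (m 7 (by simp) 1)
    have h1 : X₂ 9 t9 * (X₂ 10 t10 * X₂ 11 t11) * X₂ 7 1 =
        X₂ 7 1 * (X₂ 9 t9 * (X₂ 10 (3 * (-1) * t9) * (X₂ 10 t10 * X₂ 11 t11))) := by
      calc _ = X₂ 9 t9 * (X₂ 10 t10 * (X₂ 11 t11 * X₂ 7 1)) := by simp only [mul_assoc]
        _ = X₂ 9 t9 * ((X₂ 10 t10 * X₂ 7 1) * X₂ 11 t11) := by
            rw [← e11]
            simp only [mul_assoc]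
        _ = (X₂ 9 t9 * X₂ 7 1) * (X₂ 10 t10 * X₂ 11 t11) := by
            rw [← e10]
            simp only [mul_assoc]
        _ = _ := by
            rw [c9_7]
            simp only [mul_assoc]
    rw [h1] at h
    have h2 := mul_left_cancel (mul_left_cancel h)
    have h4 : X₂ 10 (3 * (-1) * t9) * X₂ 11 0 = X₂ 10 0 * X₂ 11 0 := by
      rw [xG_zero, xG_zero, mul_one, mul_one]
      exact (mul_right_cancel ((one_mul _).trans h2)).symm
    have := (inj10 h4).1
    simpa [h3] using this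
  subst h9
  rw [xG_zero, one_mul] at hc ⊢
  have h10 : t10 = 0 := by
    have h := hc _ (m 6 (by simp) 1)
    have h1 : X₂ 10 t10 * X₂ 11 t11 * X₂ 6 1 = X₂ 6 1 * (X₂ 10 t10 * (X₂ 11 (-1 * t10) * X₂ 11 t11)) := by
      calc _ = X₂ 10 t10 * (X₂ 11 t11 * X₂ 6 1) := by simp only [mul_assoc]
        _ = (X₂ 10 t10 * X₂ 6 1) * X₂ 11 t11 := by
            rw [← f11]
            simp only [mul_assoc]
        _ = _ := by
            rw [c10_6]
            simp only [mul_assoc]
    rw [h1] at h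
    have h2 := mul_left_cancel (mul_left_cancel h)
    have h4 : X₂ 11 (-1 * t10) = X₂ 11 0 := by
      rw [xG_zero]
      exact (mul_right_cancel ((one_mul _).trans h2)).symm
    have := inj11 h4
    simpa using this
  subst h10
  rw [xG_zero, one_mul]
  exact ⟨t11, rfl⟩

/-! ### the elementary abelian group `X_10 X_11` -/

theorem mem_group (r : ℕ) (t : F) : X₂ r t ∈ chevG2.group F := xG_mem_group inListG2 r t

/-- the element `x_10(s) x_11(t)` of the group -/
def el (s t : F) : ↥(chevG2.group F) := ⟨X₂ 10 s * X₂ 11 t, mul_mem (mem_group 10 s) (mem_group 11 t)⟩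

theorem c11_10 (s t : F) : X₂ 11 t * X₂ 10 s = X₂ 10 s * X₂ 11 t :=
  (cc (F := F) (r := 11) (s := 10) (by decide) (by decide) (by decide) (by decide) t s).symm

theorem el_mul (s t s' t' : F) : el s t * el s' t' = el (s + s') (t + t') := by
  apply Subtype.ext
  show X₂ 10 s * X₂ 11 t * (X₂ 10 s' * X₂ 11 t') = X₂ 10 (s + s') * X₂ 11 (t + t')
  rw [← xG_add, ← xG_add, mul_assoc, ← mul_assoc (X₂ 11 t), c11_10]
  simp only [mul_assoc]

theorem el_zero : (el 0 0 : ↥(chevG2.group F)) = 1 := by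
  apply Subtype.ext
  show X₂ 10 0 * X₂ 11 0 = 1
  rw [xG_zero, xG_zero, one_mul]

theorem el_inj {s t s' t' : F} (h : (el s t : ↥(chevG2.group F)) = el s' t') : s = s' ∧ t = t' :=
  inj10 (congrArg Subtype.val h)

/-- `X_10 X_11` -/
def EE (F : Type) [Field F] : Subgroup ↥(chevG2.group F) where
  carrier := {g | ∃ s t : F, g = el s t}
  one_mem' := ⟨0, 0, el_zero.symm⟩
  mul_mem' := by
    rintro _ _ ⟨s, t, rfl⟩ ⟨s', t', rfl⟩
    exact ⟨_, _, el_mul s t s' t'⟩
  inv_mem' := by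
    rintro _ ⟨s, t, rfl⟩
    refine ⟨-s, -t, ?_⟩
    apply inv_eq_of_mul_eq_one_left
    rw [el_mul, neg_add_cancel, neg_add_cancel, el_zero]

theorem el_pow (s t : F) (m : ℕ) : (el s t) ^ m = el (m * s) (m * t) := by
  induction m with
  | zero => rw [pow_zero, Nat.cast_zero, zero_mul, zero_mul, el_zero]
  | succ m ih =>
    rw [pow_succ, ih, el_mul]
    congr 1 <;> push_cast <;> ring

theorem elem_EE {p : ℕ} [CharP F p] : IsElementaryAbelian p (EE F) := by
  refine ⟨⟨⟨?_⟩⟩, ?_⟩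
  · rintro ⟨_, s, t, rfl⟩ ⟨_, s', t', rfl⟩
    apply Subtype.ext
    show el s t * el s' t' = el s' t' * el s t
    rw [el_mul, el_mul, add_comm s, add_comm t]
  · rintro _ ⟨s, t, rfl⟩
    rw [el_pow, CharP.cast_eq_zero, zero_mul, zero_mul, el_zero]

theorem card_EE [Fintype F] : Nat.card (EE F) = Fintype.card F ^ 2 := by
  have e : (F × F) ≃ EE F := by
    refine Equiv.ofBijective (fun p => ⟨el p.1 p.2, p.1, p.2, rfl⟩) ⟨?_, ?_⟩
    · rintro ⟨s, t⟩ ⟨s', t'⟩ h
      obtain ⟨h1, h2⟩ := el_inj (congrArg Subtype.val h)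
      exact Prod.ext h1 h2
    · rintro ⟨_, s, t, rfl⟩
      exact ⟨(s, t), rfl⟩
  rw [← Nat.card_congr e, Nat.card_prod, Nat.card_eq_fintype_card, sq]

/-- every nontrivial element of `E` is conjugate to some `x_11(c)`, `c ≠ 0` -/
theorem exists_conj {s t : F} (h : s ≠ 0 ∨ t ≠ 0) : ∃ (g : ↥(chevG2.group F)) (c : F), c ≠ 0 ∧ g * el s t * g⁻¹ = el 0 c := by
  by_cases hs : s = 0
  · subst hs
    refine ⟨1, t, ?_, by group⟩
    rcases h with h | h
    · exact absurd rfl h
    · exact h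
  · -- conjugate away `t`
    let g1 : ↥(chevG2.group F) := ⟨X₂ 6 (t / s), mem_group 6 _⟩
    have h1 : g1⁻¹ * el s t * g1 = el s 0 := by
      have h2 : el s t * g1 = g1 * el s 0 := by
        apply Subtype.ext
        show X₂ 10 s * X₂ 11 t * X₂ 6 (t / s) = X₂ 6 (t / s) * (X₂ 10 s * X₂ 11 0)
        have e1 : X₂ 11 t * X₂ 6 (t / s) = X₂ 6 (t / s) * X₂ 11 t :=
          (cc (F := F) (r := 11) (s := 6) (by decide) (by decide) (by decide) (by decide) t (t / s)).symm
        rw [mul_assoc, e1, ← mul_assoc, c10_6, mul_assoc, xG_add, mul_assoc]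
        congr 3
        field_simp
        ring
      rw [mul_assoc, h2]
      group
    obtain ⟨η, hη, hn⟩ := WeylConj.nS_conj inListG2 F (i := 1) (s := 10) (by decide) (by decide)
    have hr : chevG2.reflectRoot 1 10 = 11 := by decide +kernel
    rw [hr] at hn
    have hm : WeylConj.nS inListG2 F 1 ∈ chevG2.group F := nG_mem_group inListG2 _ _
    let g2 : ↥(chevG2.group F) := ⟨WeylConj.nS inListG2 F 1, hm⟩
    refine ⟨g2 * g1⁻¹, (η : F) * s, ?_, ?_⟩
    · rcases hη with rfl | rfl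
      · simpa using hs
      · simpa using hs
    · have e : g2 * g1⁻¹ * el s t * (g2 * g1⁻¹)⁻¹ = g2 * (g1⁻¹ * el s t * g1) * g2⁻¹ := by group
      rw [e, h1]
      apply Subtype.ext
      show WeylConj.nS inListG2 F 1 * (X₂ 10 s * X₂ 11 0) * (WeylConj.nS inListG2 F 1)⁻¹ = X₂ 10 0 * X₂ 11 ((η : F) * s)
      rw [xG_zero, xG_zero, mul_one, one_mul]
      exact hn s

theorem piv_el [Fintype F] (hF : Fintype.card F = 5) (t : F) : Piv 5 (el 0 t : ↥(chevG2.group F)) := by
  have h5 : Fact (Nat.Prime 5) := ⟨by norm_num⟩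
  have hch : CharP F 5 := by
    have h1 := FiniteField.cast_card_eq_zero F
    rw [hF] at h1
    obtain ⟨p, hp⟩ := CharP.exists F
    have h2 : p ∣ 5 := (CharP.cast_eq_zero_iff F p 5).1 h1
    have h3 : p ≠ 1 := CharP.char_ne_one F p
    have h4 := (Nat.dvd_prime (by norm_num)).1 h2
    rcases h4 with h4 | h4
    · exact absurd h4 h3
    · rwa [h4] at hp
  refine ⟨EE F, elem_EE, ?_, ?_⟩
  · intro h0
    have := card_EE (F := F)
    rw [h0, hF, Nat.card_eq_one_iff_unique.2 ⟨inferInstance, inferInstance⟩] at this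
    omega
  · intro B hB hi
    have hB1 : B ≠ ⊥ := by
      rintro rfl
      rw [relIndex_bot_left, card_EE, hF] at hi
      omega
    obtain ⟨b, hb, hb1⟩ := (Subgroup.ne_bot_iff_exists_ne_one (H := B)).1 hB1 |>.imp fun b hb => (⟨b.2, hb⟩ : _ ∧ _)
    obtain ⟨s, u, hsu⟩ := hB hb
    have hne : s ≠ 0 ∨ u ≠ 0 := by
      by_contra hcon
      rw [not_or, not_not, not_not] at hcon
      apply hb1
      apply Subtype.ext
      rw [hsu, hcon.1, hcon.2, el_zero]
      rfl
    obtain ⟨g, c, hc, hg⟩ := exists_conj hne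
    refine ⟨b, hb, g, ?_⟩
    rw [hsu, hg]
    -- `t = m c`
    obtain ⟨m, hm⟩ : ∃ m : ℕ, (m : F) * c = t := by
      have hbij : Function.Bijective (ZMod.castHom (dvd_refl 5) F) := by
        rw [Fintype.bijective_iff_injective_and_card]
        exact ⟨RingHom.injective _, by rw [ZMod.card, hF]⟩
      obtain ⟨a, ha⟩ := hbij.2 (t / c)
      refine ⟨a.val, ?_⟩
      have h1 : ((a.val : ℕ) : F) = t / c := by
        rw [← ha, ← map_natCast (ZMod.castHom (dvd_refl 5) F), ZMod.natCast_zmod_val]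
      rw [h1, div_mul_cancel₀ _ hc]
    rw [mem_zpowers_iff]
    refine ⟨m, ?_⟩
    rw [zpow_natCast, el_pow, mul_zero, hm]

/-- **The pivot lemma for `G₂(5)`.** -/
theorem piv_g2 [Fintype F] (hF : Fintype.card F = 5) :
    Cfsg.Agent.H5.Piv.LP 5 ↥(Lie.chevG2.group F) := by
  have h5 : Fact (Nat.Prime 5) := ⟨by norm_num⟩
  have hch : CharP F 5 := by
    have h1 := FiniteField.cast_card_eq_zero F
    rw [hF] at h1
    obtain ⟨p, hp⟩ := CharP.exists F
    have h2 : p ∣ 5 := (CharP.cast_eq_zero_iff F p 5).1 h1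
    have h3 : p ≠ 1 := CharP.char_ne_one F p
    have h4 := (Nat.dvd_prime (by norm_num)).1 h2
    rcases h4 with h4 | h4
    · exact absurd h4 h3
    · rwa [h4] at hp
  have h3 : (3 : F) ≠ 0 := by
    intro h
    have h1 : ((3 : ℕ) : F) = 0 := by exact_mod_cast h
    have := (CharP.cast_eq_zero_iff F 5 3).1 h1
    omega
  have hp := Cfsg.Agent.BpExc.RowsUntw.g2T
  have hfin := Cfsg.Agent.Nodes.RGDChev.finite_W hp CoxeterMatrix.G₂.toCoxeterSystem
  obtain ⟨S, hS⟩ := OddHalf.Quat.NoThreeE.exists_syl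
    (Cfsg.Agent.Nodes.RGDChev.rgd (K := F) hp CoxeterMatrix.G₂.toCoxeterSystem 5)
    (Cfsg.Agent.KFacts.RgdRigid.GG_eq_top (Cfsg.Agent.Nodes.RGDChev.G1_eq_top hp CoxeterMatrix.G₂.toCoxeterSystem))
  have hmem : ∀ x : ↥(chevG2.group F), x ∈ S ↔ (x : GL chevG2.Idx F) ∈ chevG2.posUnipotent F := by
    intro x
    have h6 : (S : Subgroup ↥(chevG2.group F)) = (chevG2.posUnipotent F).subgroupOf (chevG2.group F) := by
      rw [hS]
      exact H115.sup_pos_eq (K := F) hp CoxeterMatrix.G₂.toCoxeterSystem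
    rw [← Subgroup.mem_subgroupOf, ← h6]
    rfl
  refine LP.of_exists S ?_
  intro z hz hz1 _ hc
  obtain ⟨t, ht⟩ := center_mem (F := F) h3 ((hmem z).1 hz) (by
    intro u hu
    have hug : u ∈ chevG2.group F := posUnipotent_le_group inListG2 F hu
    exact congrArg Subtype.val (hc ⟨u, hug⟩ ((hmem _).2 hu)))
  have e : z = el 0 t := by
    apply Subtype.ext
    rw [ht]
    show X₂ 11 t = X₂ 10 0 * X₂ 11 t
    rw [xG_zero, one_mul]
  rw [e]
  exact piv_el hF t

end Cfsg.Agent.H580.Piv.GTwo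
end

private theorem dce_3af036db839a : _root_.True := by
  try have : _root_.True := by simp only [_root_.Cfsg.Lie.ChevalleyDatum.commWord.eq_1]
  exact _root_.True.intro
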